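/-
Helper library (helper29): `Ω₁` of `p`-groups (p odd) without subgroups of exponent `p` and order
`p ^ 3`; metacyclic `p`-groups.
-/
import Cfsg.Agent.Lib.Helper29.NormalRankTwo

set_option autoImplicit false

namespace Cfsg.Agent.Lib.Helper29

open Cfsg.Agent.Lib.Helper24
open scoped commutatorElement

variable {G : Type*} [Group G]

theorem card_le_of_isCyclic_of_pow {H : Type*} [Group H] [IsCyclic H] {p : ℕ} (hp : 0 < p)
    (h : ∀ x : H, x ^ p = 1) : Nat.card H ≤ p := by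
  obtain ⟨g, hg⟩ := IsCyclic.exists_ofOrder_eq_natCard (α := H)
  rw [← hg]; exact Nat.le_of_dvd hp (orderOf_dvd_of_pow_eq_one (h g))

/-- in a subgroup `E` of order at most `p ^ 3`, commutators are central in `E`. -/
theorem commute_commutator_of_card_le [Finite G] {p : ℕ} [Fact p.Prime] (E : Subgroup G)
    (hE : IsPGroup p E) (hcard : Nat.card E ≤ p ^ 3) :
    ∀ u ∈ E, ∀ v ∈ E, ∀ w ∈ E, Commute ⁅u, v⁆ w := by
  have hcl := class_two_of_card_le hE hcard
  intro u hu v hv w hw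
  have h1 : ⁅(⟨u, hu⟩ : E), (⟨v, hv⟩ : E)⁆ ∈ commutator E := by
    rw [commutator_def]
    exact Subgroup.commutator_mem_commutator (Subgroup.mem_top _) (Subgroup.mem_top _)
  have h3 : ⁅⁅(⟨u, hu⟩ : E), (⟨v, hv⟩ : E)⁆, (⟨w, hw⟩ : E)⁆ ∈ ⁅commutator E, (⊤ : Subgroup E)⁆ :=
    Subgroup.commutator_mem_commutator h1 (Subgroup.mem_top _)
  rw [hcl, Subgroup.mem_bot] at h3
  have h4 := commutatorElement_eq_one_iff_commute.1 h3
  exact congrArg Subtype.val h4.eq

theorem mem_of_pow_eq_one_of_rank [Finite G] {p : ℕ} [Fact p.Prime] (hp2 : p ≠ 2) (hG : IsPGroup p G)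
    (A : Subgroup G) [A.Normal] (hAp : ∀ a ∈ A, a ^ p = 1) (hAcard : Nat.card A = p ^ 2)
    (hE : ∀ E : Subgroup G, (∀ e ∈ E, e ^ p = 1) → Nat.card E ≤ p ^ 2) (x : G) (hx : x ^ p = 1) :
    x ∈ A := by
  have hp : p.Prime := Fact.out
  by_contra hxA
  obtain ⟨E, hEdef⟩ : ∃ E : Subgroup G, E = Subgroup.zpowers x ⊔ A := ⟨_, rfl⟩
  have hnorm : Subgroup.zpowers x ≤ Subgroup.normalizer (A : Set G) := by
    rw [Subgroup.normalizer_eq_top]; exact le_top
  have hcard : Nat.card E ≤ p ^ 3 := by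
    have h3 : Nat.card (Subgroup.zpowers x) ≤ p := by
      rw [Nat.card_zpowers]
      exact Nat.le_of_dvd hp.pos (orderOf_dvd_of_pow_eq_one hx)
    calc Nat.card E ≤ Nat.card (Subgroup.zpowers x) * Nat.card A := by
          rw [hEdef]; exact card_sup_le_of_le_normalizer _ _ hnorm
      _ ≤ p * p ^ 2 := by rw [hAcard]; exact Nat.mul_le_mul_right _ h3
      _ = p ^ 3 := by ring
  have hcomm := commute_commutator_of_card_le E (hG.to_subgroup E) hcard
  have hexp : ∀ e ∈ E, e ^ p = 1 := by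
    intro e he
    have he' : e ∈ ((Subgroup.zpowers x ⊔ A : Subgroup G) : Set G) := hEdef ▸ he
    rw [Subgroup.coe_mul_of_left_le_normalizer_right _ _ hnorm] at he'
    obtain ⟨u, hu, a, ha, rfl⟩ := he'
    have huE : u ∈ E := hEdef ▸ (le_sup_left (a := Subgroup.zpowers x) (b := A)) hu
    have haE : a ∈ E := hEdef ▸ (le_sup_right (a := Subgroup.zpowers x) (b := A)) ha
    have hup : u ^ p = 1 := by
      obtain ⟨i, rfl⟩ := Subgroup.mem_zpowers_iff.1 hu
      rw [← zpow_natCast, ← zpow_mul, mul_comm, zpow_mul, zpow_natCast, hx, one_zpow]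
    rw [mul_pow_prime_of_commute p hp2 u a (hcomm a haE u huE u huE) (hcomm a haE u huE a haE)
      (by rw [hAp a ha]; exact Commute.one_left u), hup, hAp a ha, one_mul]
  have h1 := hE E hexp
  have h2 : Nat.card A < Nat.card E := by
    apply card_lt_of_lt
    rw [hEdef]
    refine lt_of_le_of_ne le_sup_right (fun h => hxA ?_)
    rw [h]
    exact (le_sup_left (a := Subgroup.zpowers x) (b := A)) (Subgroup.mem_zpowers x)
  omega

theorem card_le_sq_of_metacyclic [Finite G] {p : ℕ} (hp : 0 < p) (N : Subgroup G) [N.Normal]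
    (hN : IsCyclic N) (hQ : IsCyclic (G ⧸ N)) (E : Subgroup G) (hE : ∀ e ∈ E, e ^ p = 1) :
    Nat.card E ≤ p ^ 2 := by
  have h1 : (N ⊓ E).relIndex E * Nat.card (N ⊓ E : Subgroup G) = Nat.card E :=
    relIndex_mul_card' inf_le_right
  rw [Subgroup.inf_relIndex_right] at h1
  have h2 : N.relIndex E = Nat.card (E.map (QuotientGroup.mk' N)) := by
    have := Subgroup.relIndex_ker (K := E) (QuotientGroup.mk' N)
    rwa [QuotientGroup.ker_mk'] at this
  have h3 : Nat.card (E.map (QuotientGroup.mk' N)) ≤ p := by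
    apply card_le_of_isCyclic_of_pow hp
    rintro ⟨_, e, he, rfl⟩
    apply Subtype.ext
    change (QuotientGroup.mk' N e) ^ p = 1
    rw [← map_pow, hE e he, map_one]
  have h4 : Nat.card (N ⊓ E : Subgroup G) ≤ p := by
    have := Subgroup.isCyclic_of_le (inf_le_left : N ⊓ E ≤ N)
    exact card_le_of_isCyclic_of_pow hp (fun x => Subtype.ext (hE x x.2.2))
  rw [← h1, h2, sq]
  exact Nat.mul_le_mul h3 h4

/-- For odd `p`, in a non-cyclic metacyclic `p`-group the elements of order dividing `p` form an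
elementary abelian subgroup of order `p ^ 2`. -/
theorem exists_omega_of_metacyclic [Finite G] {p : ℕ} [Fact p.Prime] (hp2 : p ≠ 2)
    (hG : IsPGroup p G) (N : Subgroup G) [N.Normal] (hN : IsCyclic N) (hQ : IsCyclic (G ⧸ N))
    (hnc : ¬ IsCyclic G) :
    ∃ A : Subgroup G, IsMulCommutative A ∧ (∀ a ∈ A, a ^ p = 1) ∧ Nat.card A = p ^ 2 ∧
      ∀ x : G, x ^ p = 1 → x ∈ A := by
  have hp : p.Prime := Fact.out
  have hS : ¬ IsCyclic (⊤ : Subgroup G) := by
    intro h
    exact hnc (isCyclic_of_surjective (Subgroup.topEquiv : (⊤ : Subgroup G) ≃* G)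
      (Subgroup.topEquiv : (⊤ : Subgroup G) ≃* G).surjective)
  obtain ⟨A, -, h2, h3, h4, h5⟩ := exists_normal_elemAb_sq_of_not_isCyclic hp2 hG ⊤ hS
  exact ⟨A, h3, h4, h5, mem_of_pow_eq_one_of_rank hp2 hG A h4 h5
    (card_le_sq_of_metacyclic hp.pos N hN hQ)⟩

end Cfsg.Agent.Lib.Helper29
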