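import Mathlib
import Cfsg.Agent.S0059

set_option autoImplicit false

namespace Cfsg.Agent.Lib.Helper29

open SemidirectProduct

/-- Glauberman's lemma (solvable case), for an abstract coprime action `φ : A →* MulAut K` and
compatible actions of `K` and `A` on a set `X` with `K` transitive. -/
theorem glauberman_abstract {K A : Type*} [Group K] [Group A] [Finite K] [Finite A]
    (φ : A →* MulAut K) (hcop : (Nat.card A).Coprime (Nat.card K))
    (hsolv : Group.IsSolvable A ∨ Group.IsSolvable K)
    {X : Type*} [Nonempty X] (fK : K →* Equiv.Perm X) (fA : A →* Equiv.Perm X)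
    (hcompat : ∀ (a : A) (k : K) (x : X), fA a (fK k x) = fK (φ a k) (fA a x))
    (htrans : ∀ x y : X, ∃ k : K, fK k x = y) :
    (∃ x : X, ∀ a : A, fA a x = x) ∧
    ∀ x y : X, (∀ a, fA a x = x) → (∀ a, fA a y = y) →
      ∃ k : K, (∀ a, φ a k = k) ∧ fK k x = y := by
  classical
  have hlift : ∀ g, fK.comp (φ g).toMonoidHom = (MulAut.conj (fA g)).toMonoidHom.comp fK := by
    intro a
    ext k x
    simp only [MonoidHom.comp_apply, MulEquiv.coe_toMonoidHom, MulAut.conj_apply,
      Equiv.Perm.mul_apply]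
    rw [hcompat]
    simp
  let F : K ⋊[φ] A →* Equiv.Perm X := SemidirectProduct.lift fK fA hlift
  let _ : MulAction (K ⋊[φ] A) X := MulAction.compHom X F
  have : Finite (K ⋊[φ] A) := Finite.of_equiv _ equivProd.symm
  have hsmul : ∀ (s : K ⋊[φ] A) (x : X), s • x = F s x := fun _ _ => rfl
  let K' : Subgroup (K ⋊[φ] A) := (inl : K →* K ⋊[φ] A).range
  let H : Subgroup (K ⋊[φ] A) := (inr : A →* K ⋊[φ] A).range
  have hK'n : K'.Normal := by
    have : K' = (rightHom : K ⋊[φ] A →* A).ker := range_inl_eq_ker_rightHom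
    rw [this]; infer_instance
  have cK' : Nat.card K' = Nat.card K :=
    Nat.card_congr (MonoidHom.ofInjective (inl_injective (φ := φ))).symm.toEquiv
  have cH : Nat.card H = Nat.card A :=
    Nat.card_congr (MonoidHom.ofInjective (inr_injective (φ := φ))).symm.toEquiv
  have hc : Subgroup.IsComplement' K' H :=
    Subgroup.isComplement'_of_coprime (by rw [cK', cH, SemidirectProduct.card])
      (by rw [cK', cH]; exact hcop.symm)
  have hidx : K'.index = Nat.card A := by rw [hc.symm.index_eq_card, cH]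
  have hsolv' : Group.IsSolvable K' ∨ Group.IsSolvable ((K ⋊[φ] A) ⧸ K') := by
    rcases hsolv with h | h
    · right
      refine Group.isSolvable_of_surjective (f := (QuotientGroup.mk' K').comp (inr : A →* K ⋊[φ] A)) ?_
      intro q
      obtain ⟨s, rfl⟩ := QuotientGroup.mk'_surjective K' q
      refine ⟨s.right, ?_⟩
      simp only [MonoidHom.comp_apply, QuotientGroup.mk'_apply]
      rw [QuotientGroup.eq]
      refine ⟨φ s.right⁻¹ s.left, ?_⟩
      ext <;> simp
    · left
      exact Group.isSolvable_of_surjective (f := (inl : K →* K ⋊[φ] A).rangeRestrict)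
        (MonoidHom.rangeRestrict_surjective _)
  have htr : MulAction.IsPretransitive K' X := by
    refine ⟨fun x y => ?_⟩
    obtain ⟨k, hk⟩ := htrans x y
    refine ⟨⟨inl k, k, rfl⟩, ?_⟩
    change F (inl k) x = y
    simpa [F] using hk
  obtain ⟨h1, h2⟩ := Cfsg.Agent.S0059.result (X := X) K' H hc (by rw [cK', hidx]; exact hcop.symm)
    hsolv' htr
  have hfix : ∀ x : X, (∀ a, fA a x = x) → ∀ h ∈ H, h • x = x := by
    rintro x hx _ ⟨a, rfl⟩
    rw [hsmul]
    simpa [F] using hx a
  refine ⟨?_, ?_⟩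
  · obtain ⟨x, hx⟩ := h1
    refine ⟨x, fun a => ?_⟩
    have := hx (inr a) ⟨a, rfl⟩
    rw [hsmul] at this
    simpa [F] using this
  · intro x y hx hy
    obtain ⟨s, ⟨⟨k, rfl⟩, hs⟩, hsx⟩ := h2 x y (hfix x hx) (hfix y hy)
    refine ⟨k, fun a => ?_, ?_⟩
    · have h3 := Subgroup.mem_centralizer_iff.mp hs (inr a) ⟨a, rfl⟩
      have h4 : (inl (φ a k) : K ⋊[φ] A) = inl k := by
        rw [inl_aut, h3]
        rw [mul_assoc, ← map_mul, mul_inv_cancel, map_one, mul_one]
      exact inl_injective h4
    · rw [hsmul] at hsx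
      simpa [F] using hsx

/-- Glauberman's lemma (solvable case) for subgroups `A`, `K` of an ambient finite group, with `A`
normalizing `K`. -/
theorem glauberman {G : Type*} [Group G] [Finite G] (A K : Subgroup G)
    (hAK : A ≤ Subgroup.normalizer (K : Set G))
    (hcop : (Nat.card A).Coprime (Nat.card K)) (hsolv : Group.IsSolvable A ∨ Group.IsSolvable K)
    {X : Type*} [Nonempty X] (fK : K →* Equiv.Perm X) (fA : A →* Equiv.Perm X)
    (hcompat : ∀ (a : A) (k k' : K) (x : X), (k' : G) = a * k * (a : G)⁻¹ →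
      fA a (fK k x) = fK k' (fA a x))
    (htrans : ∀ x y : X, ∃ k : K, fK k x = y) :
    (∃ x : X, ∀ a : A, fA a x = x) ∧
    ∀ x y : X, (∀ a, fA a x = x) → (∀ a, fA a y = y) →
      ∃ k : K, (k : G) ∈ Subgroup.centralizer (A : Set G) ∧ fK k x = y := by
  obtain ⟨h1, h2⟩ := glauberman_abstract
    ((K.normalizerMonoidHom).comp (Subgroup.inclusion hAK)) hcop hsolv fK fA
    (fun a k x => hcompat a k _ x rfl) htrans
  refine ⟨h1, fun x y hx hy => ?_⟩
  obtain ⟨k, hk, hkx⟩ := h2 x y hx hy
  refine ⟨k, ?_, hkx⟩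
  rw [Subgroup.mem_centralizer_iff]
  intro a ha
  have h3 := congrArg Subtype.val (hk ⟨a, ha⟩)
  have h4 : a * k * a⁻¹ = k := h3
  calc a * k = a * k * a⁻¹ * a := by group
    _ = k * a := by rw [h4]

/-- Glauberman's lemma (solvable case), `MulAction` form. -/
theorem glauberman' {G : Type*} [Group G] [Finite G] (A K : Subgroup G)
    (hAK : A ≤ Subgroup.normalizer (K : Set G))
    (hcop : (Nat.card A).Coprime (Nat.card K)) (hsolv : Group.IsSolvable A ∨ Group.IsSolvable K)
    {X : Type*} [Nonempty X] [MulAction K X] [MulAction A X]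
    (hcompat : ∀ (a : A) (k k' : K) (x : X), (k' : G) = a * k * (a : G)⁻¹ →
      a • k • x = k' • a • x)
    (htrans : ∀ x y : X, ∃ k : K, k • x = y) :
    (∃ x : X, ∀ a : A, a • x = x) ∧
    ∀ x y : X, (∀ a : A, a • x = x) → (∀ a : A, a • y = y) →
      ∃ k : K, (k : G) ∈ Subgroup.centralizer (A : Set G) ∧ k • x = y :=
  glauberman A K hAK hcop hsolv (MulAction.toPermHom K X) (MulAction.toPermHom A X)
    hcompat htrans

/-- Passing the coprimality and solvability hypotheses to a subgroup of `K`. -/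
theorem coprime_solvable_of_le {G : Type*} [Group G] [Finite G] {A K N : Subgroup G}
    (hNK : N ≤ K) (hcop : (Nat.card A).Coprime (Nat.card K))
    (hsolv : Group.IsSolvable A ∨ Group.IsSolvable K) :
    (Nat.card A).Coprime (Nat.card N) ∧ (Group.IsSolvable A ∨ Group.IsSolvable N) := by
  refine ⟨hcop.coprime_dvd_right (Subgroup.card_dvd_of_le hNK), ?_⟩
  rcases hsolv with h | h
  · exact Or.inl h
  · exact Or.inr (Group.isSolvable_of_isSolvable_injective (Subgroup.inclusion_injective hNK))

end Cfsg.Agent.Lib.Helper29
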