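/-
Helper library (helper29): normal subgroups of prescribed order inside normal subgroups of p-groups.
-/
import Cfsg.Agent.Lib.Helper24.PGroup

set_option autoImplicit false

namespace Cfsg.Agent.Lib.Helper29

open Cfsg.Agent.Lib.Helper24
open scoped commutatorElement

variable {G : Type*} [Group G]

/-- a nontrivial normal subgroup `K` of a `p`-group contains a normal subgroup of index `p` in `K`
(containing `[K, G]`). -/
theorem exists_normal_index_p [Finite G] {p : ℕ} [Fact p.Prime] (hG : IsPGroup p G)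
    (K : Subgroup G) [K.Normal] (hK : K ≠ ⊥) :
    ∃ B : Subgroup G, B < K ∧ B.Normal ∧ Nat.card K = p * Nat.card B ∧ ⁅K, (⊤ : Subgroup G)⁆ ≤ B := by
  have hnil : Group.IsNilpotent G := hG.isNilpotent
  have hlt : ⁅K, (⊤ : Subgroup G)⁆ < K := by
    refine lt_of_le_of_ne (Subgroup.commutator_le_left K ⊤) ?_
    intro heq
    exact hK (eq_bot_of_le_commutator (H := ⊤) (P := K) (Group.isNilpotent_top.2 hnil) le_top heq.ge)
  obtain ⟨B, hQB, hBK, -, hcard, -, -⟩ := exists_maximal_normal p (hG.to_subgroup K) hlt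
  refine ⟨B, hBK, ?_, hcard, hQB⟩
  constructor
  intro b hb g
  have h1 : ⁅g, b⁆ ∈ B := by
    apply hQB
    rw [Subgroup.commutator_comm]
    exact Subgroup.commutator_mem_commutator (Subgroup.mem_top g) (hBK.le hb)
  have := B.mul_mem h1 hb
  simpa [commutatorElement_def] using this

/-- a normal subgroup `K` of a `p`-group contains normal subgroups of every order `p ^ k ≤ |K|`. -/
theorem exists_normal_le_of_card [Finite G] {p : ℕ} [Fact p.Prime] (hG : IsPGroup p G) (k : ℕ) :
    ∀ (n : ℕ) (K : Subgroup G), K.Normal → Nat.card K = n → p ^ k ≤ n →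
      ∃ L : Subgroup G, L ≤ K ∧ L.Normal ∧ Nat.card L = p ^ k := by
  have hp : p.Prime := Fact.out
  intro n
  induction n using Nat.strong_induction_on with
  | _ n ih =>
  intro K hKn hn hk
  rcases eq_or_lt_of_le hk with heq | hlt
  · exact ⟨K, le_rfl, hKn, by rw [hn, heq]⟩
  have hK : K ≠ ⊥ := by
    rintro rfl
    rw [Subgroup.card_bot] at hn
    have : 0 < p ^ k := pow_pos hp.pos k
    omega
  obtain ⟨B, hBK, hBn, hcard, -⟩ := exists_normal_index_p hG K hK
  obtain ⟨m, hm⟩ := IsPGroup.iff_card.1 (hG.to_subgroup B)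
  have hkm : k ≤ m := by
    rw [← hn, hcard, hm, ← pow_succ'] at hlt
    have := (Nat.pow_lt_pow_iff_right hp.one_lt).1 hlt
    omega
  obtain ⟨L, hLB, hLn, hL⟩ := ih (Nat.card B) (hn ▸ card_lt_of_lt hBK) B hBn rfl
    (by rw [hm]; exact Nat.pow_le_pow_right hp.pos hkm)
  exact ⟨L, hLB.trans hBK.le, hLn, hL⟩

end Cfsg.Agent.Lib.Helper29
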