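import Cfsg.Agent.Lib.Helper29.Glauberman

set_option autoImplicit false

namespace Cfsg.Agent.Lib.Helper29

open scoped Pointwise

section
variable {G : Type*} [Group G] {A K : Subgroup G} {p : ℕ}

/-- The action of a subgroup `A` normalizing `K` on the Sylow `p`-subgroups of `K`. -/
@[reducible] def sylowActionOfLeNormalizer (hAK : A ≤ Subgroup.normalizer (K : Set G)) (p : ℕ) :
    MulAction A (Sylow p K) :=
  MulAction.compHom _ (Subgroup.inclusion hAK)

theorem mem_sylowAction_iff (hAK : A ≤ Subgroup.normalizer (K : Set G)) (a : A) (P : Sylow p K)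
    (x : K) :
    x ∈ (letI := sylowActionOfLeNormalizer hAK p; a • P) ↔
      ∃ y ∈ P, (x : G) = a * y * (a : G)⁻¹ := by
  letI := sylowActionOfLeNormalizer hAK p
  change x ∈ (Subgroup.inclusion hAK a) • (P : Subgroup K) ↔ _
  rw [Subgroup.mem_smul_pointwise_iff_exists]
  constructor
  · rintro ⟨y, hy, rfl⟩
    exact ⟨y, hy, rfl⟩
  · rintro ⟨y, hy, hxy⟩
    exact ⟨y, hy, Subtype.ext hxy.symm⟩

theorem mem_sylow_smul_iff (k : K) (P : Sylow p K) (x : K) :
    x ∈ k • P ↔ ∃ y ∈ P, x = k * y * k⁻¹ := by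
  change x ∈ MulAut.conj k • (P : Subgroup K) ↔ _
  rw [Subgroup.mem_smul_pointwise_iff_exists]
  constructor
  · rintro ⟨y, hy, rfl⟩
    exact ⟨y, hy, rfl⟩
  · rintro ⟨y, hy, hxy⟩
    exact ⟨y, hy, hxy.symm⟩

/-- `a • P = P` for all `a ∈ A` iff `A` normalizes the image of `P` in `G`. -/
theorem sylowAction_fixed_iff (hAK : A ≤ Subgroup.normalizer (K : Set G)) (P : Sylow p K) :
    (∀ a : A, (letI := sylowActionOfLeNormalizer hAK p; a • P) = P) ↔
      A ≤ Subgroup.normalizer ((P : Subgroup K).map K.subtype : Set G) := by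
  rw [Subgroup.le_normalizer_iff]
  constructor
  · rintro h a ha _ ⟨y, hy, rfl⟩
    have hmem : a * y * a⁻¹ ∈ K := (Subgroup.le_normalizer_iff.mp hAK) a ha y y.2
    refine ⟨⟨a * y * a⁻¹, hmem⟩, ?_, rfl⟩
    have h1 := h ⟨a, ha⟩
    have h2 : (⟨a * y * a⁻¹, hmem⟩ : K) ∈
        (letI := sylowActionOfLeNormalizer hAK p; (⟨a, ha⟩ : A) • P) :=
      (mem_sylowAction_iff hAK ⟨a, ha⟩ P _).mpr ⟨y, hy, rfl⟩
    rw [h1] at h2
    exact h2
  · intro h a
    apply Sylow.ext
    ext x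
    change x ∈ (letI := sylowActionOfLeNormalizer hAK p; a • P) ↔ x ∈ P
    rw [mem_sylowAction_iff]
    constructor
    · rintro ⟨y, hy, hxy⟩
      obtain ⟨y', hy', hyy⟩ := h a a.2 y ⟨y, hy, rfl⟩
      have : x = y' := Subtype.ext (hxy.trans hyy.symm)
      rw [this]
      exact hy'
    · intro hx
      obtain ⟨y', hy', hyy⟩ := h a⁻¹ (A.inv_mem a.2) x ⟨x, hx, rfl⟩
      refine ⟨y', hy', ?_⟩
      have h3 : (y' : G) = (a : G)⁻¹ * x * (a : G)⁻¹⁻¹ := hyy
      rw [h3]
      group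

end

/-- Coprime action: existence of an `A`-invariant Sylow `p`-subgroup of `K`, and transitivity of
`C_K(A)` on those. -/
theorem coprime_sylow {G : Type*} [Group G] [Finite G] (A K : Subgroup G)
    (hAK : A ≤ Subgroup.normalizer (K : Set G))
    (hcop : (Nat.card A).Coprime (Nat.card K)) (hsolv : Group.IsSolvable A ∨ Group.IsSolvable K)
    (p : ℕ) [Fact p.Prime] :
    (∃ P : Sylow p K, A ≤ Subgroup.normalizer ((P : Subgroup K).map K.subtype : Set G)) ∧
    ∀ P Q : Sylow p K, A ≤ Subgroup.normalizer ((P : Subgroup K).map K.subtype : Set G) →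
      A ≤ Subgroup.normalizer ((Q : Subgroup K).map K.subtype : Set G) →
      ∃ c : K, (c : G) ∈ Subgroup.centralizer (A : Set G) ∧ MulAut.conj c • P = Q := by
  letI := sylowActionOfLeNormalizer hAK p
  obtain ⟨h1, h2⟩ := glauberman' A K hAK hcop hsolv (X := Sylow p K)
    (by
      intro a k k' P hk'
      apply Sylow.ext
      ext x
      change x ∈ a • k • P ↔ x ∈ k' • a • P
      rw [mem_sylowAction_iff, mem_sylow_smul_iff]
      constructor
      · rintro ⟨y, hy, hxy⟩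
        obtain ⟨w, hw, rfl⟩ := (mem_sylow_smul_iff k P y).mp hy
        have hmem : (a : G) * w * (a : G)⁻¹ ∈ K :=
          (Subgroup.le_normalizer_iff.mp hAK) a a.2 w w.2
        refine ⟨⟨(a : G) * w * (a : G)⁻¹, hmem⟩, ?_, ?_⟩
        · exact (mem_sylowAction_iff hAK a P _).mpr ⟨w, hw, rfl⟩
        · apply Subtype.ext
          rw [hxy]
          simp only [Subgroup.coe_mul, Subgroup.coe_inv, hk']
          group
      · rintro ⟨y, hy, hxy⟩
        obtain ⟨w, hw, hyw⟩ := (mem_sylowAction_iff hAK a P y).mp hy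
        refine ⟨k * w * k⁻¹, (mem_sylow_smul_iff k P _).mpr ⟨w, hw, rfl⟩, ?_⟩
        rw [hxy]
        simp only [Subgroup.coe_mul, Subgroup.coe_inv, hk', hyw]
        group)
    (fun P Q => MulAction.exists_smul_eq K P Q)
  refine ⟨?_, ?_⟩
  · obtain ⟨P, hP⟩ := h1
    exact ⟨P, (sylowAction_fixed_iff hAK P).mp hP⟩
  · intro P Q hP hQ
    obtain ⟨c, hc, hcP⟩ := h2 P Q ((sylowAction_fixed_iff hAK P).mpr hP)
      ((sylowAction_fixed_iff hAK Q).mpr hQ)
    exact ⟨c, hc, hcP⟩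

end Cfsg.Agent.Lib.Helper29
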