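import Mathlib
import Cfsg.Prelude.Def_Transfer

set_option autoImplicit false

namespace Cfsg.Agent.Lib.Helper29

open scoped BigOperators commutatorElement

/-- Duality by orthogonality: if `β` is a bimultiplicative pairing `P × P → ℤ` and `l : P → ℤ` is
multiplicative and trivial on the right radical of `β`, then `l * β u = 1` for some `u`. -/
theorem exists_pairing_eq {P : Type*} [Group P] [Finite P] (β : P → P → ℤ)
    (hβ1 : ∀ u y y', β u (y * y') = β u y * β u y')
    (hβ2 : ∀ u u' y, β (u * u') y = β u y * β u' y)
    (hβ11 : ∀ u, β u 1 = 1) (hβ12 : ∀ y, β 1 y = 1)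
    (l : P → ℤ) (hl : ∀ y y', l (y * y') = l y * l y') (hl1 : l 1 = 1)
    (hrad : ∀ y, (∀ u, β u y = 1) → l y = 1) : ∃ u, ∀ y, l y * β u y = 1 := by
  classical
  have := Fintype.ofFinite P
  by_contra hcon
  push Not at hcon
  -- the double sum vanishes
  have h0 : ∑ u : P, ∑ y : P, l y * β u y = 0 := by
    apply Finset.sum_eq_zero
    intro u _
    let f : P →* ℤ :=
      { toFun := fun y => l y * β u y
        map_one' := by simp [hl1, hβ11]
        map_mul' := by
          intro y y'
          simp only [hl, hβ1]
          ring }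
    have hf : f ≠ 1 := by
      obtain ⟨y, hy⟩ := hcon u
      intro h
      exact hy (by simpa [f] using DFunLike.congr_fun h y)
    exact sum_hom_units_eq_zero f hf
  rw [Finset.sum_comm] at h0
  have h1 : ∀ y : P, ∑ u : P, l y * β u y = if (∀ u, β u y = 1) then (Fintype.card P : ℤ) else 0 := by
    intro y
    split_ifs with h
    · simp [h, hrad y h]
    · rw [← Finset.mul_sum]
      let f : P →* ℤ :=
        { toFun := fun u => β u y
          map_one' := hβ12 y
          map_mul' := fun u u' => hβ2 u u' y }
      have hf : f ≠ 1 := by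
        push Not at h
        obtain ⟨u, hu⟩ := h
        intro h'
        exact hu (by simpa [f] using DFunLike.congr_fun h' u)
      have : ∑ u : P, β u y = 0 := sum_hom_units_eq_zero f hf
      rw [this, mul_zero]
  simp only [h1] at h0
  have hpos : 0 < ∑ y : P, (if (∀ u, β u y = 1) then (Fintype.card P : ℤ) else 0) := by
    apply Finset.sum_pos'
    · intro y _
      split_ifs
      · positivity
      · exact le_rfl
    · refine ⟨1, Finset.mem_univ _, ?_⟩
      rw [if_pos hβ11]
      exact_mod_cast Fintype.card_pos
  omega

/-- In an extraspecial group all commutators are central. -/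
theorem IsExtraspecial.commutator_mem_center {p : ℕ} {P : Type*} [Group P]
    (hP : Cfsg.IsExtraspecial p P) (a b : P) : ⁅a, b⁆ ∈ Subgroup.center P := by
  rw [← hP.1.2.2]
  exact Subgroup.commutator_mem_commutator (Subgroup.mem_top a) (Subgroup.mem_top b)

/-- In a group whose centre has order two, two nontrivial central elements coincide. -/
theorem center_eq_of_ne_one {P : Type*} [Group P] (h2 : Nat.card (Subgroup.center P) = 2)
    {c c' : P} (hc : c ∈ Subgroup.center P) (hc' : c' ∈ Subgroup.center P) (h1 : c ≠ 1)
    (h1' : c' ≠ 1) : c = c' := by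
  obtain ⟨w, _, hw⟩ := (Nat.card_eq_two_iff' (1 : Subgroup.center P)).mp h2
  have e1 := hw ⟨c, hc⟩ (by simpa [Subtype.ext_iff] using h1)
  have e2 := hw ⟨c', hc'⟩ (by simpa [Subtype.ext_iff] using h1')
  exact congrArg Subtype.val (e1.trans e2.symm)

/-- In a group whose centre has order two, central elements square to one. -/
theorem center_sq_eq_one {P : Type*} [Group P] (h2 : Nat.card (Subgroup.center P) = 2)
    {c : P} (hc : c ∈ Subgroup.center P) : c * c = 1 := by
  have h := pow_card_eq_one' (G := Subgroup.center P) (x := ⟨c, hc⟩)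
  rw [h2] at h
  have := congrArg Subtype.val h
  simpa [pow_two] using this

/-- Every endomorphism of an extraspecial 2-group that is trivial modulo the centre and fixes the
centre elementwise is an inner automorphism. -/
theorem IsExtraspecial.inner_of_central {P : Type*} [Group P] [Finite P]
    (hP : Cfsg.IsExtraspecial 2 P) (α : P →* P)
    (hc : ∀ y, y⁻¹ * α y ∈ Subgroup.center P) (hz : ∀ y ∈ Subgroup.center P, α y = y) :
    ∃ u : P, ∀ y, α y = u * y * u⁻¹ := by
  classical
  have h2 : Nat.card (Subgroup.center P) = 2 := hP.2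
  have hcomm := IsExtraspecial.commutator_mem_center hP
  let σ : P → ℤ := fun c => if c = 1 then 1 else -1
  have hσ : ∀ c ∈ Subgroup.center P, ∀ c' ∈ Subgroup.center P, σ (c * c') = σ c * σ c' := by
    intro c hc c' hc'
    by_cases h1 : c = 1
    · subst h1; simp [σ]
    · by_cases h1' : c' = 1
      · subst h1'; simp [σ]
      · have := center_eq_of_ne_one h2 hc hc' h1 h1'
        subst this
        simp [σ, h1, center_sq_eq_one h2 hc]
  have hσ1 : ∀ c, σ c = 1 ↔ c = 1 := by
    intro c
    by_cases h : c = 1 <;> simp [σ, h]
  have hcen : ∀ {c : P}, c ∈ Subgroup.center P → ∀ g : P, g * c = c * g :=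
    fun hc g => Subgroup.mem_center_iff.mp hc g
  -- bimultiplicativity of the commutator
  have hb1 : ∀ u y y' : P, ⁅u, y * y'⁆ = ⁅u, y⁆ * ⁅u, y'⁆ := by
    intro u y y'
    have h := hcen (hcomm u y') y
    calc ⁅u, y * y'⁆ = ⁅u, y⁆ * (y * ⁅u, y'⁆) * y⁻¹ := by
          simp only [commutatorElement_def]; group
      _ = ⁅u, y⁆ * ⁅u, y'⁆ := by rw [h]; group
  have hb2 : ∀ u u' y : P, ⁅u * u', y⁆ = ⁅u, y⁆ * ⁅u', y⁆ := by
    intro u u' y
    have h := hcen (hcomm u' y) u
    calc ⁅u * u', y⁆ = (u * ⁅u', y⁆) * u⁻¹ * ⁅u, y⁆ := by
          simp only [commutatorElement_def]; group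
      _ = ⁅u', y⁆ * ⁅u, y⁆ := by rw [h]; group
      _ = ⁅u, y⁆ * ⁅u', y⁆ := (hcen (hcomm u' y) _).symm
  have hl : ∀ y y' : P, (y * y')⁻¹ * α (y * y') = (y⁻¹ * α y) * (y'⁻¹ * α y') := by
    intro y y'
    have h := hcen (hc y) y'⁻¹
    calc (y * y')⁻¹ * α (y * y') = (y'⁻¹ * (y⁻¹ * α y)) * α y' := by
          rw [map_mul]; group
      _ = (y⁻¹ * α y) * (y'⁻¹ * α y') := by rw [h]; group
  obtain ⟨u, hu⟩ := exists_pairing_eq (fun u y => σ ⁅u, y⁆)
    (fun u y y' => by
      change σ ⁅u, y * y'⁆ = _
      rw [hb1, hσ _ (hcomm _ _) _ (hcomm _ _)])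
    (fun u u' y => by
      change σ ⁅u * u', y⁆ = _
      rw [hb2, hσ _ (hcomm _ _) _ (hcomm _ _)])
    (fun u => by simp [σ]) (fun y => by simp [σ])
    (fun y => σ (y⁻¹ * α y))
    (fun y y' => by
      change σ ((y * y')⁻¹ * α (y * y')) = _
      rw [hl, hσ _ (hc _) _ (hc _)])
    (by simp [σ])
    (fun y hy => by
      have hyc : y ∈ Subgroup.center P := by
        rw [Subgroup.mem_center_iff]
        intro g
        have := (hσ1 _).mp (hy g)
        rw [commutatorElement_eq_one_iff_mul_comm] at this
        exact this
      rw [hσ1, hz y hyc, inv_mul_cancel])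
  refine ⟨u, fun y => ?_⟩
  have h := hu y
  have heq : y⁻¹ * α y = ⁅u, y⁆ := by
    by_cases h1 : y⁻¹ * α y = 1
    · have h3 : σ ⁅u, y⁆ = 1 := by
        have : σ (y⁻¹ * α y) = 1 := (hσ1 _).mpr h1
        rw [this, one_mul] at h
        exact h
      rw [h1, (hσ1 _).mp h3]
    · by_cases h1' : ⁅u, y⁆ = 1
      · exfalso
        simp [σ, h1, h1'] at h
      · exact center_eq_of_ne_one h2 (hc y) (hcomm u y) h1 h1'
  have h4 := hcen (hcomm u y) y
  calc α y = y * (y⁻¹ * α y) := by group
    _ = y * ⁅u, y⁆ := by rw [heq]
    _ = ⁅u, y⁆ * y := h4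
    _ = u * y * u⁻¹ := by rw [commutatorElement_def]; group

/-- An involutory endomorphism of an extraspecial 2-group whose fixed points form a subgroup of index
at most two is inner. -/
theorem IsExtraspecial.inner_of_fix_index_le_two {P : Type*} [Group P] [Finite P]
    (hP : Cfsg.IsExtraspecial 2 P) (α : P →* P) (hα : ∀ y, α (α y) = y) (D : Subgroup P)
    (hD : ∀ y, y ∈ D ↔ α y = y) (hi : D.index ≤ 2) : ∃ u : P, ∀ y, α y = u * y * u⁻¹ := by
  classical
  have h2 : Nat.card (Subgroup.center P) = 2 := hP.2
  have hinj : Function.Injective α := fun a b hab => by rw [← hα a, ← hα b, hab]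
  have hidx : D.index = 1 ∨ D.index = 2 := by
    have : D.index ≠ 0 := Subgroup.index_ne_zero_of_finite
    omega
  rcases hidx with h1 | hidx
  · refine ⟨1, fun y => ?_⟩
    rw [Subgroup.index_eq_one] at h1
    have : y ∈ D := h1 ▸ Subgroup.mem_top y
    simp [(hD y).mp this]
  · have hDn : D.Normal := Subgroup.normal_of_index_eq_two hidx
    apply IsExtraspecial.inner_of_central hP α
    · intro x
      by_cases hx : x ∈ D
      · rw [(hD x).mp hx, inv_mul_cancel]
        exact Subgroup.one_mem _
      · set c := x⁻¹ * α x with hc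
        have hαx : α x = x * c := by rw [hc]; group
        have hαxD : α x ∉ D := by
          intro h
          have := (hD _).mp h
          rw [hα] at this
          exact hx (this ▸ h)
        have hcD : c ∈ D := by
          rw [hc, Subgroup.mul_mem_iff_of_index_two hidx, Subgroup.inv_mem_iff]
          exact ⟨fun h => absurd h hx, fun h => absurd h hαxD⟩
        have hαc : α c = c := (hD c).mp hcD
        have hcc : c * c = 1 := by
          have h := hα x
          rw [hαx, map_mul, hαx, hαc] at h
          have : x * (c * c) = x * 1 := by rw [mul_one, ← mul_assoc]; exact h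
          exact mul_left_cancel this
        have hxx : x * x ∈ D := by
          rw [Subgroup.mul_mem_iff_of_index_two hidx]
        have hcx : c * x = x * c := by
          have h := (hD _).mp hxx
          rw [map_mul, hαx] at h
          -- x c x c = x x
          have h' : c * x * c = x := by
            have : x * (c * x * c) = x * x := by rw [← h]; group
            exact mul_left_cancel this
          calc c * x = c * x * (c * c) := by rw [hcc, mul_one]
            _ = (c * x * c) * c := by group
            _ = x * c := by rw [h']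
        have hcd : ∀ d ∈ D, c * d = d * c := by
          intro d hd
          have h := (hD _).mp (hDn.conj_mem d hd x)
          rw [map_mul, map_mul, map_inv, hαx, (hD d).mp hd] at h
          -- x c d c⁻¹ x⁻¹ = x d x⁻¹
          have h' : c * d * c⁻¹ = d := by
            have : x * (c * d * c⁻¹) * x⁻¹ = x * d * x⁻¹ := by rw [← h]; group
            exact mul_left_cancel (mul_right_cancel this)
          calc c * d = c * d * c⁻¹ * c := by group
            _ = d * c := by rw [h']
        rw [Subgroup.mem_center_iff]
        intro g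
        by_cases hg : g ∈ D
        · exact (hcd g hg).symm
        · have hxg : x⁻¹ * g ∈ D := by
            rw [Subgroup.mul_mem_iff_of_index_two hidx, Subgroup.inv_mem_iff]
            exact ⟨fun h => absurd h hx, fun h => absurd h hg⟩
          have h3 := hcd _ hxg
          calc g * c = x * ((x⁻¹ * g) * c) := by group
            _ = x * (c * (x⁻¹ * g)) := by rw [h3]
            _ = (x * c) * (x⁻¹ * g) := by group
            _ = (c * x) * (x⁻¹ * g) := by rw [hcx]
            _ = c * g := by group
    · intro y hy
      by_cases hy1 : y = 1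
      · subst hy1; simp
      · have hαy : α y ∈ Subgroup.center P := by
          rw [Subgroup.mem_center_iff]
          intro g
          have := Subgroup.mem_center_iff.mp hy (α g)
          have h' := congrArg α this
          rw [map_mul, map_mul, hα] at h'
          exact h'
        have hαy1 : α y ≠ 1 := by
          intro h
          apply hy1
          apply hinj
          rw [h, map_one]
        exact center_eq_of_ne_one h2 hαy hy hαy1 hy1

end Cfsg.Agent.Lib.Helper29
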