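import Mathlib
import Cfsg.Agent.Lib.Helper19.Dihedral
import Cfsg.Agent.Lib.Helper24.Basic

/-!
# Involutions whose centralizer has a normal Klein four Sylow 2-subgroup (helper29)
-/

set_option autoImplicit false
set_option linter.unusedSectionVars false

namespace Cfsg.Agent.Lib.Helper29.KleinCent

variable {G : Type*} [Group G] [Finite G]

/-- `2`-elements of `C` lie in the normal subgroup `S₀` of odd index. -/
theorem two_elt_mem {C S₀ : Subgroup G} (hodd : ¬ 2 ∣ S₀.relIndex C)
    (hn : (S₀.subgroupOf C).Normal) {y : G} (hy : y ∈ C) {k : ℕ} (hk : y ^ (2 ^ k) = 1) :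
    y ∈ S₀ := by
  have h1 : ((QuotientGroup.mk (⟨y, hy⟩ : C) : C ⧸ S₀.subgroupOf C)) ^ (2 ^ k) = 1 := by
    rw [← QuotientGroup.mk_pow]
    have : (⟨y, hy⟩ : C) ^ (2 ^ k) = 1 := Subtype.ext (by simpa using hk)
    rw [this]; rfl
  have h2 : orderOf (QuotientGroup.mk (⟨y, hy⟩ : C) : C ⧸ S₀.subgroupOf C) ∣ 2 ^ k :=
    orderOf_dvd_of_pow_eq_one h1
  have h3 : orderOf (QuotientGroup.mk (⟨y, hy⟩ : C) : C ⧸ S₀.subgroupOf C) ∣ S₀.relIndex C := by
    have := orderOf_dvd_natCard (QuotientGroup.mk (⟨y, hy⟩ : C) : C ⧸ S₀.subgroupOf C)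
    rwa [← Subgroup.index_eq_card] at this
  have hcop : Nat.Coprime (2 ^ k) (S₀.relIndex C) :=
    Nat.Coprime.pow_left _ ((Nat.Prime.coprime_iff_not_dvd Nat.prime_two).2 hodd)
  have h4 : orderOf (QuotientGroup.mk (⟨y, hy⟩ : C) : C ⧸ S₀.subgroupOf C) = 1 :=
    Nat.eq_one_of_dvd_coprimes hcop h2 h3
  rw [orderOf_eq_one_iff, QuotientGroup.eq_one_iff, Subgroup.mem_subgroupOf] at h4
  exact h4

theorem klein_sq {S₀ : Subgroup G} (hK : IsKleinFour ↥S₀) {a : G} (ha : a ∈ S₀) : a * a = 1 := by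
  have := IsKleinFour.mul_self (⟨a, ha⟩ : S₀)
  exact congrArg Subtype.val this

theorem klein_comm {S₀ : Subgroup G} (hK : IsKleinFour ↥S₀) {a b : G} (ha : a ∈ S₀) (hb : b ∈ S₀) :
    a * b = b * a := by
  have h1 := klein_sq hK ha
  have h2 := klein_sq hK hb
  have h3 := klein_sq hK (S₀.mul_mem ha hb)
  calc a * b = a * (a * b * (a * b)) * b := by rw [h3, mul_one]
    _ = (a * a) * (b * a) * (b * b) := by group
    _ = b * a := by rw [h1, h2, one_mul, mul_one]

theorem klein_enum {S₀ : Subgroup G} (hK : IsKleinFour ↥S₀) {x z : G} (hx : x ∈ S₀) (hz : z ∈ S₀)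
    (hx1 : x ≠ 1) (hz1 : z ≠ 1) (hxz : x ≠ z) {c : G} (hc : c ∈ S₀) :
    c = 1 ∨ c = x ∨ c = z ∨ c = x * z := by
  by_contra hcon
  push Not at hcon
  obtain ⟨h1, h2, h3, h4⟩ := hcon
  have := IsKleinFour.eq_mul_of_ne_all (x := (⟨x, hx⟩ : S₀)) (y := ⟨z, hz⟩) (z := ⟨c, hc⟩)
    (fun h => hx1 (congrArg Subtype.val h)) (fun h => hz1 (congrArg Subtype.val h))
    (fun h => hxz (congrArg Subtype.val h)) (fun h => h1 (congrArg Subtype.val h))
    (fun h => h2 (congrArg Subtype.val h)) (fun h => h3 (congrArg Subtype.val h))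
  exact h4 (congrArg Subtype.val this)


section main

variable {x : G} {S₀ : Subgroup G}

theorem two_elt_conj (hodd : ¬ 2 ∣ S₀.relIndex (Subgroup.centralizer ({x} : Set G)))
    (hn : (S₀.subgroupOf (Subgroup.centralizer ({x} : Set G))).Normal) (g : G) {y : G}
    (hy : y ∈ Subgroup.centralizer ({g * x * g⁻¹} : Set G)) {k : ℕ} (hk : y ^ (2 ^ k) = 1) :
    g⁻¹ * y * g ∈ S₀ := by
  apply two_elt_mem hodd hn (k := k)
  · rw [Subgroup.mem_centralizer_singleton_iff] at hy ⊢
    calc g⁻¹ * y * g * x = g⁻¹ * (y * (g * x * g⁻¹)) * g := by group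
      _ = g⁻¹ * ((g * x * g⁻¹) * y) * g := by rw [hy]
      _ = x * (g⁻¹ * y * g) := by group
  · have : g⁻¹ * y * g = g⁻¹ * y * g⁻¹⁻¹ := by rw [inv_inv]
    rw [this, conj_pow, hk]; group

theorem two_elt_of_conj_mem (hK : IsKleinFour ↥S₀)
    (hodd : ¬ 2 ∣ S₀.relIndex (Subgroup.centralizer ({x} : Set G)))
    (hn : (S₀.subgroupOf (Subgroup.centralizer ({x} : Set G))).Normal) (g : G)
    (hg : g * x * g⁻¹ ∈ S₀) {y : G}
    (hy : y ∈ Subgroup.centralizer ({g * x * g⁻¹} : Set G)) {k : ℕ} (hk : y ^ (2 ^ k) = 1) :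
    y ∈ S₀ := by
  have hle : S₀.map (MulAut.conj g⁻¹).toMonoidHom ≤ S₀ := by
    rintro _ ⟨s, hs, rfl⟩
    have h1 : s ∈ Subgroup.centralizer ({g * x * g⁻¹} : Set G) := by
      rw [Subgroup.mem_centralizer_singleton_iff]
      exact klein_comm hK hs hg
    have h2 : s ^ (2 ^ 1) = 1 := by rw [pow_one, pow_two]; exact klein_sq hK hs
    have := two_elt_conj hodd hn g h1 h2
    simpa using this
  have heq : S₀.map (MulAut.conj g⁻¹).toMonoidHom = S₀ := by
    apply Subgroup.eq_of_le_of_card_ge hle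
    rw [Subgroup.card_map_of_injective (MulAut.conj g⁻¹).injective]
  have h3 := two_elt_conj hodd hn g hy hk
  rw [← heq] at h3
  obtain ⟨s, hs, hs2⟩ := h3
  have : s = y := by
    have h4 : g⁻¹ * s * g = g⁻¹ * y * g := by simpa using hs2
    exact mul_left_cancel (mul_right_cancel h4)
  rw [← this]; exact hs

theorem exists_sylow_eq [IsSimpleGroup G] (hx : orderOf x = 2)
    (hle : S₀ ≤ Subgroup.centralizer ({x} : Set G)) (hK : IsKleinFour ↥S₀)
    (hodd : ¬ 2 ∣ S₀.relIndex (Subgroup.centralizer ({x} : Set G)))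
    (hn : (S₀.subgroupOf (Subgroup.centralizer ({x} : Set G))).Normal) :
    ∃ P : Sylow 2 G, (P : Subgroup G) = S₀ := by
  classical
  have hfact : Fact (Nat.Prime 2) := ⟨Nat.prime_two⟩
  have hxx : x * x = 1 := by rw [← pow_two, ← hx]; exact pow_orderOf_eq_one x
  have hx1 : x ≠ 1 := by rintro rfl; simp at hx
  have hxC : x ∈ Subgroup.centralizer ({x} : Set G) := Subgroup.mem_centralizer_singleton_iff.mpr rfl
  have hxS : x ∈ S₀ := two_elt_mem hodd hn hxC (k := 1) (by rw [pow_one, pow_two]; exact hxx)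
  have hS4 : Nat.card S₀ = 4 := IsKleinFour.card_four
  have hSp : IsPGroup 2 S₀ := IsPGroup.of_card (n := 2) (by rw [hS4]; norm_num)
  obtain ⟨T, hST⟩ := hSp.exists_le_sylow
  by_contra hcon
  have hlt : S₀ < (T : Subgroup G) := lt_of_le_of_ne hST (fun h => hcon ⟨T, h.symm⟩)
  have hTp : IsPGroup 2 (T : Subgroup G) := T.isPGroup'
  have hTpow : ∀ t ∈ (T : Subgroup G), ∃ k : ℕ, t ^ (2 ^ k) = 1 := by
    intro t ht
    obtain ⟨k, hk⟩ := hTp ⟨t, ht⟩
    exact ⟨k, by simpa using congrArg Subtype.val hk⟩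
  -- a central involution of `T`
  have hTnt : Nontrivial (T : Subgroup G) :=
    ⟨⟨⟨x, hST hxS⟩, 1, fun h => hx1 (congrArg Subtype.val h)⟩⟩
  have hcen := hTp.center_nontrivial
  have h2dvd : 2 ∣ Nat.card (Subgroup.center (T : Subgroup G)) := by
    rcases (hTp.to_subgroup (Subgroup.center (T : Subgroup G))).card_eq_or_dvd with h | h
    · have := Finite.one_lt_card_iff_nontrivial.mpr hcen
      omega
    · exact h
  obtain ⟨z0, hz0⟩ := exists_prime_orderOf_dvd_card' 2 h2dvd
  obtain ⟨z, hzdef⟩ : ∃ z : G, z = z0.1.1 := ⟨_, rfl⟩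
  have hz : orderOf z = 2 := by
    rw [hzdef, Subgroup.orderOf_coe, Subgroup.orderOf_coe]; exact hz0
  have hzc : ∀ g ∈ (T : Subgroup G), g * z = z * g := by
    intro g hg
    rw [hzdef]
    exact congrArg Subtype.val (Subgroup.mem_center_iff.mp z0.2 ⟨g, hg⟩)
  have hzz : z * z = 1 := by rw [← pow_two, ← hz]; exact pow_orderOf_eq_one z
  have hz1 : z ≠ 1 := by rintro rfl; simp at hz
  have hzC : z ∈ Subgroup.centralizer ({x} : Set G) :=
    Subgroup.mem_centralizer_singleton_iff.mpr (hzc x (hST hxS)).symm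
  have hzS : z ∈ S₀ := two_elt_mem hodd hn hzC (k := 1) (by rw [pow_one, pow_two]; exact hzz)
  -- `z` is not conjugate to `x`
  have hzx : ∀ g : G, g * x * g⁻¹ ≠ z := by
    intro g hg
    have hTle : (T : Subgroup G) ≤ S₀ := by
      intro t ht
      obtain ⟨k, hk⟩ := hTpow t ht
      apply two_elt_of_conj_mem hK hodd hn g (by rw [hg]; exact hzS) _ hk
      rw [hg, Subgroup.mem_centralizer_singleton_iff]
      exact hzc t ht
    exact absurd hTle (not_le_of_gt hlt)
  have hxz : x ≠ z := fun h => hzx 1 (by simpa using h)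
  -- an element of `T` fusing `x` and `x * z`
  obtain ⟨t, htT, htN, htS⟩ :=
    Cfsg.Agent.Lib.Helper24.exists_mem_normalizer_not_mem hTp.isNilpotent hlt
  have htx : t * x * t⁻¹ = x * z := by
    have h1 : t * x * t⁻¹ ∈ S₀ := (Subgroup.mem_normalizer_iff.1 htN x).1 hxS
    rcases klein_enum hK hxS hzS hx1 hz1 hxz h1 with h | h | h | h
    · exfalso; apply hx1
      calc x = t⁻¹ * (t * x * t⁻¹) * t := by group
        _ = 1 := by rw [h]; group
    · exfalso; apply htS
      obtain ⟨k, hk⟩ := hTpow t htT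
      apply two_elt_mem hodd hn _ hk
      rw [Subgroup.mem_centralizer_singleton_iff]
      calc t * x = (t * x * t⁻¹) * t := by group
        _ = x * t := by rw [h]
    · exact absurd h (hzx t)
    · exact h
  -- involutions not conjugate to `x` commute with `z`
  have hcl1 : ∀ u : G, u * u = 1 → u ≠ 1 → (∀ g, g * x * g⁻¹ ≠ u) → u * z = z * u := by
    intro u huu hu1 hux
    have hu2 : u ^ (2 ^ 1) = 1 := by rw [pow_one, pow_two]; exact huu
    rcases Nat.even_or_odd (orderOf (x * u)) with he | ho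
    · obtain ⟨c, hc1, hcc, hcx, hcu⟩ :=
        Cfsg.Agent.Lib.Helper19.exists_central_invol_of_even hxx huu he
      have hcC : c ∈ Subgroup.centralizer ({x} : Set G) :=
        Subgroup.mem_centralizer_singleton_iff.mpr hcx
      have hcS : c ∈ S₀ := two_elt_mem hodd hn hcC (k := 1) (by rw [pow_one, pow_two]; exact hcc)
      rcases klein_enum hK hxS hzS hx1 hz1 hxz hcS with h | h | h | h
      · exact absurd h hc1
      · have huC : u ∈ Subgroup.centralizer ({x} : Set G) :=
          Subgroup.mem_centralizer_singleton_iff.mpr (by rw [← h]; exact hcu.symm)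
        exact klein_comm hK (two_elt_mem hodd hn huC hu2) hzS
      · rw [← h]; exact hcu.symm
      · have huC : u ∈ Subgroup.centralizer ({t * x * t⁻¹} : Set G) :=
          Subgroup.mem_centralizer_singleton_iff.mpr (by rw [htx, ← h]; exact hcu.symm)
        exact klein_comm hK (two_elt_of_conj_mem hK hodd hn t
          (by rw [htx]; exact S₀.mul_mem hxS hzS) huC hu2) hzS
    · obtain ⟨w, hww, hw1, -, -⟩ :=
        Cfsg.Agent.Lib.Helper19.exists_invol_swap_of_odd hxx huu ho
      exfalso; apply hux w; rw [Cfsg.Agent.Lib.Helper19.invol_inv hww]; exact hw1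
  -- hence conjugates of `z` commute with `z`
  have hcl2 : ∀ g : G, (g * z * g⁻¹) * z = z * (g * z * g⁻¹) := by
    intro g
    apply hcl1
    · calc g * z * g⁻¹ * (g * z * g⁻¹) = g * (z * z) * g⁻¹ := by group
        _ = 1 := by rw [hzz]; group
    · intro h; apply hz1
      calc z = g⁻¹ * (g * z * g⁻¹) * g := by group
        _ = 1 := by rw [h]; group
    · intro k hk
      apply hzx (g⁻¹ * k)
      calc g⁻¹ * k * x * (g⁻¹ * k)⁻¹ = g⁻¹ * (k * x * k⁻¹) * g := by group
        _ = z := by rw [hk]; group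
  -- the normal closure of `z` centralizes `z`
  have hncl : Subgroup.normalClosure ({z} : Set G) ≤ Subgroup.centralizer ({z} : Set G) := by
    rw [Subgroup.normalClosure, Subgroup.closure_le]
    intro y hy
    rw [Group.mem_conjugatesOfSet_iff] at hy
    obtain ⟨a, ha, hay⟩ := hy
    rw [Set.mem_singleton_iff] at ha
    subst ha
    rw [isConj_iff] at hay
    obtain ⟨g, rfl⟩ := hay
    exact Subgroup.mem_centralizer_singleton_iff.mpr (hcl2 g)
  have htop : Subgroup.normalClosure ({z} : Set G) = ⊤ := by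
    rcases (Subgroup.normalClosure_normal (s := ({z} : Set G))).eq_bot_or_eq_top with h | h
    · exfalso; apply hz1
      have : z ∈ Subgroup.normalClosure ({z} : Set G) :=
        Subgroup.subset_normalClosure (Set.mem_singleton z)
      rw [h] at this
      exact Subgroup.mem_bot.1 this
    · exact h
  have hzcen : z ∈ Subgroup.center G := by
    rw [Subgroup.mem_center_iff]
    intro g
    have : g ∈ Subgroup.centralizer ({z} : Set G) := hncl (by rw [htop]; trivial)
    exact Subgroup.mem_centralizer_singleton_iff.mp this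
  have hctop : Subgroup.center G = ⊤ := by
    rcases (inferInstance : (Subgroup.center G).Normal).eq_bot_or_eq_top with h | h
    · exfalso; apply hz1
      rw [h] at hzcen
      exact Subgroup.mem_bot.1 hzcen
    · exact h
  have hxcen : x ∈ Subgroup.center G := by rw [hctop]; trivial
  have h5 : t * x * t⁻¹ = x := by
    rw [Subgroup.mem_center_iff.mp hxcen t]; group
  rw [htx] at h5
  exact hz1 (mul_left_cancel (h5.trans (mul_one x).symm))

end main

end Cfsg.Agent.Lib.Helper29.KleinCent
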