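import Mathlib
import Cfsg.Prelude.Def_TwoFusion

/-!
# Sylow 2-subgroups with a quaternion-like direct factor (helper29)

`S = Q × R`, where `Q` has a unique involution `z`, which is a commutator in `Q`, and all
involutions of `R` are central in `R`.  Then the product of the `N_G(S)`-conjugates of `z` is an
involution of `Z(S)` which is isolated in `G`.
-/

set_option autoImplicit false
set_option linter.unusedSectionVars false

namespace Cfsg.Agent.Lib.Helper29.QuatFactor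

open Cfsg

variable {G : Type*} [Group G]

theorem decomp {Q R S : Subgroup G} (h : IsInternalDirectProduct Q R S) {s : G} (hs : s ∈ S) :
    ∃ q ∈ Q, ∃ r ∈ R, s = q * r := by
  obtain ⟨-, -, hc, -, hsup⟩ := h
  have hle : Q ≤ Subgroup.normalizer (R : Set G) := by
    intro q hq
    rw [Subgroup.mem_normalizer_iff]
    intro r
    constructor
    · intro hr
      have : q * r * q⁻¹ = r := by rw [hc q hq r hr]; group
      rw [this]; exact hr
    · intro hr
      have h2 : q⁻¹ * (q * r * q⁻¹) * q = q * r * q⁻¹ := by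
        have := hc q hq _ hr
        calc q⁻¹ * (q * r * q⁻¹) * q = q⁻¹ * ((q * r * q⁻¹) * q) := by group
          _ = q⁻¹ * (q * (q * r * q⁻¹)) := by rw [this]
          _ = q * r * q⁻¹ := by group
      have h3 : q⁻¹ * (q * r * q⁻¹) * q = r := by group
      rw [← h3, h2]; exact hr
  have h1 := Subgroup.coe_mul_of_left_le_normalizer_right Q R hle
  have h2 : s ∈ ((Q ⊔ R : Subgroup G) : Set G) := by rw [hsup]; exact hs
  rw [h1] at h2
  obtain ⟨q, hq, r, hr, rfl⟩ := h2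
  exact ⟨q, hq, r, hr, rfl⟩

/-- The data used below. -/
structure Data (Q R S : Subgroup G) (z : G) : Prop where
  prod : IsInternalDirectProduct Q R S
  zQ : z ∈ Q
  z1 : z ≠ 1
  zz : z * z = 1
  uniq : ∀ q ∈ Q, q * q = 1 → q = 1 ∨ q = z
  comm : ∃ q₁ ∈ Q, ∃ q₂ ∈ Q, q₁ * q₂ * q₁⁻¹ * q₂⁻¹ = z
  hR : ∀ r ∈ R, r * r = 1 → ∀ s ∈ R, r * s = s * r

namespace Data

variable {Q R S : Subgroup G} {z : G}

theorem QS (d : Data Q R S z) : Q ≤ S := d.prod.1
theorem RS (d : Data Q R S z) : R ≤ S := d.prod.2.1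
theorem cQR (d : Data Q R S z) : ∀ a ∈ Q, ∀ b ∈ R, a * b = b * a := d.prod.2.2.1
theorem inf (d : Data Q R S z) : Q ⊓ R = ⊥ := d.prod.2.2.2.1

theorem eq_one_of_mem (d : Data Q R S z) {a : G} (hQ : a ∈ Q) (hR : a ∈ R) : a = 1 := by
  have : a ∈ Q ⊓ R := ⟨hQ, hR⟩
  rw [d.inf] at this
  exact Subgroup.mem_bot.1 this

theorem z_central_Q (d : Data Q R S z) : ∀ q ∈ Q, z * q = q * z := by
  intro q hq
  have h1 : q * z * q⁻¹ ∈ Q := Q.mul_mem (Q.mul_mem hq d.zQ) (Q.inv_mem hq)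
  have h2 : (q * z * q⁻¹) * (q * z * q⁻¹) = 1 := by
    calc (q * z * q⁻¹) * (q * z * q⁻¹) = q * (z * z) * q⁻¹ := by group
      _ = 1 := by rw [d.zz]; group
  rcases d.uniq _ h1 h2 with h | h
  · exfalso; apply d.z1
    calc z = q⁻¹ * (q * z * q⁻¹) * q := by group
      _ = 1 := by rw [h]; group
  · calc z * q = (q * z * q⁻¹) * q := by rw [h]
      _ = q * z := by group

/-- shape of the involutions of `S` -/
theorem invol_form (d : Data Q R S z) {s : G} (hs : s ∈ S) (hss : s * s = 1) :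
    ∃ r ∈ R, r * r = 1 ∧ (s = r ∨ s = z * r) := by
  obtain ⟨q, hq, r, hr, rfl⟩ := decomp d.prod hs
  have h1 : (q * q) * (r * r) = 1 := by
    calc (q * q) * (r * r) = q * (q * r) * r := by group
      _ = q * (r * q) * r := by rw [d.cQR q hq r hr]
      _ = (q * r) * (q * r) := by group
      _ = 1 := hss
  have h2 : q * q = (r * r)⁻¹ := eq_inv_of_mul_eq_one_left h1
  have h3 : q * q = 1 :=
    d.eq_one_of_mem (Q.mul_mem hq hq) (by rw [h2]; exact R.inv_mem (R.mul_mem hr hr))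
  have h4 : r * r = 1 := by rw [h3, one_mul] at h1; exact h1
  refine ⟨r, hr, h4, ?_⟩
  rcases d.uniq q hq h3 with h | h
  · left; rw [h, one_mul]
  · right; rw [h]

theorem invol_central (d : Data Q R S z) {s : G} (hs : s ∈ S) (hss : s * s = 1) :
    ∀ t ∈ S, s * t = t * s := by
  intro t ht
  obtain ⟨r, hr, hrr, h⟩ := d.invol_form hs hss
  obtain ⟨q', hq', r', hr', rfl⟩ := decomp d.prod ht
  have e1 : r * (q' * r') = (q' * r') * r := by
    calc r * (q' * r') = (r * q') * r' := by group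
      _ = (q' * r) * r' := by rw [d.cQR q' hq' r hr]
      _ = q' * (r * r') := by group
      _ = q' * (r' * r) := by rw [d.hR r hr hrr r' hr']
      _ = (q' * r') * r := by group
  have e2 : z * (q' * r') = (q' * r') * z := by
    calc z * (q' * r') = (z * q') * r' := by group
      _ = (q' * z) * r' := by rw [d.z_central_Q q' hq']
      _ = q' * (z * r') := by group
      _ = q' * (r' * z) := by rw [d.cQR z d.zQ r' hr']
      _ = (q' * r') * z := by group
  rcases h with rfl | rfl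
  · exact e1
  · calc z * r * (q' * r') = z * (r * (q' * r')) := by group
      _ = z * ((q' * r') * r) := by rw [e1]
      _ = (z * (q' * r')) * r := by group
      _ = ((q' * r') * z) * r := by rw [e2]
      _ = q' * r' * (z * r) := by group

/-- the subgroup of elements of `S` of order at most two -/
def E (d : Data Q R S z) : Subgroup G where
  carrier := {s | s ∈ S ∧ s * s = 1}
  one_mem' := ⟨S.one_mem, by simp⟩
  mul_mem' := by
    rintro a b ⟨ha, haa⟩ ⟨hb, hbb⟩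
    refine ⟨S.mul_mem ha hb, ?_⟩
    calc a * b * (a * b) = a * (b * a) * b := by group
      _ = a * (a * b) * b := by rw [d.invol_central ha haa b hb]
      _ = (a * a) * (b * b) := by group
      _ = 1 := by rw [haa, hbb, one_mul]
  inv_mem' := by
    rintro a ⟨ha, haa⟩
    refine ⟨S.inv_mem ha, ?_⟩
    rw [← mul_inv_rev, haa, inv_one]

theorem mem_E (d : Data Q R S z) {s : G} : s ∈ d.E ↔ s ∈ S ∧ s * s = 1 := Iff.rfl

/-- elements of `S` having `e` as a commutator with some element of `S` -/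
def A (S : Subgroup G) (e : G) : Set G := {s | s ∈ S ∧ ∃ t ∈ S, s * t * s⁻¹ * t⁻¹ = e}

theorem A_conj {n : G} (hn : n ∈ Subgroup.normalizer (S : Set G)) (e : G) :
    A S (n * e * n⁻¹) = (fun s => n * s * n⁻¹) '' A S e := by
  ext s
  constructor
  · rintro ⟨hs, t, ht, hst⟩
    refine ⟨n⁻¹ * s * n, ⟨?_, n⁻¹ * t * n, ?_, ?_⟩, by group⟩
    · have := (Subgroup.mem_normalizer_iff.1 (inv_mem hn) s).1 hs
      rwa [inv_inv] at this
    · have := (Subgroup.mem_normalizer_iff.1 (inv_mem hn) t).1 ht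
      rwa [inv_inv] at this
    · calc n⁻¹ * s * n * (n⁻¹ * t * n) * (n⁻¹ * s * n)⁻¹ * (n⁻¹ * t * n)⁻¹
          = n⁻¹ * (s * t * s⁻¹ * t⁻¹) * n := by group
        _ = e := by rw [hst]; group
  · rintro ⟨s, ⟨hs, t, ht, hst⟩, rfl⟩
    refine ⟨(Subgroup.mem_normalizer_iff.1 hn s).1 hs, n * t * n⁻¹,
      (Subgroup.mem_normalizer_iff.1 hn t).1 ht, ?_⟩
    calc n * s * n⁻¹ * (n * t * n⁻¹) * (n * s * n⁻¹)⁻¹ * (n * t * n⁻¹)⁻¹
        = n * (s * t * s⁻¹ * t⁻¹) * n⁻¹ := by group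
      _ = n * e * n⁻¹ := by rw [hst]


theorem A_ssubset (d : Data Q R S z) {r : G} (hr : r ∈ R) (hr1 : r ≠ 1) :
    A S (z * r) ⊂ A S z := by
  constructor
  · rintro s ⟨hs, t, ht, hst⟩
    refine ⟨hs, ?_⟩
    obtain ⟨q, hq, c, hc, rfl⟩ := decomp d.prod hs
    obtain ⟨q', hq', c', hc', rfl⟩ := decomp d.prod ht
    have e1 : q * c * (q' * c') * (q * c)⁻¹ * (q' * c')⁻¹ =
        (q * q' * q⁻¹ * q'⁻¹) * (c * c' * c⁻¹ * c'⁻¹) := by
      have a1 := d.cQR q' hq' c hc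
      have a2 := d.cQR q⁻¹ (Q.inv_mem hq) c hc
      have a3 := d.cQR q⁻¹ (Q.inv_mem hq) c' hc'
      have a4 := d.cQR q'⁻¹ (Q.inv_mem hq') c hc
      have a5 := d.cQR q'⁻¹ (Q.inv_mem hq') c' hc'
      have a6 := d.cQR q'⁻¹ (Q.inv_mem hq') c⁻¹ (R.inv_mem hc)
      have a7 := d.cQR q⁻¹ (Q.inv_mem hq) c⁻¹ (R.inv_mem hc)
      calc q * c * (q' * c') * (q * c)⁻¹ * (q' * c')⁻¹
          = q * (c * q') * c' * c⁻¹ * q⁻¹ * c'⁻¹ * q'⁻¹ := by group
        _ = q * (q' * c) * c' * c⁻¹ * q⁻¹ * c'⁻¹ * q'⁻¹ := by rw [a1]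
        _ = q * q' * c * c' * (c⁻¹ * q⁻¹) * c'⁻¹ * q'⁻¹ := by group
        _ = q * q' * c * c' * (q⁻¹ * c⁻¹) * c'⁻¹ * q'⁻¹ := by rw [a7]
        _ = q * q' * c * (c' * q⁻¹) * c⁻¹ * c'⁻¹ * q'⁻¹ := by group
        _ = q * q' * c * (q⁻¹ * c') * c⁻¹ * c'⁻¹ * q'⁻¹ := by rw [a3]
        _ = q * q' * (c * q⁻¹) * c' * c⁻¹ * c'⁻¹ * q'⁻¹ := by group
        _ = q * q' * (q⁻¹ * c) * c' * c⁻¹ * c'⁻¹ * q'⁻¹ := by rw [a2]
        _ = q * q' * q⁻¹ * ((c * c' * c⁻¹ * c'⁻¹) * q'⁻¹) := by group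
        _ = q * q' * q⁻¹ * (q'⁻¹ * (c * c' * c⁻¹ * c'⁻¹)) := by
            rw [d.cQR q'⁻¹ (Q.inv_mem hq') _ (R.mul_mem (R.mul_mem (R.mul_mem hc hc') (R.inv_mem hc))
              (R.inv_mem hc'))]
        _ = (q * q' * q⁻¹ * q'⁻¹) * (c * c' * c⁻¹ * c'⁻¹) := by group
    rw [e1] at hst
    have hqq : q * q' * q⁻¹ * q'⁻¹ ∈ Q :=
      Q.mul_mem (Q.mul_mem (Q.mul_mem hq hq') (Q.inv_mem hq)) (Q.inv_mem hq')
    have hcc : c * c' * c⁻¹ * c'⁻¹ ∈ R :=
      R.mul_mem (R.mul_mem (R.mul_mem hc hc') (R.inv_mem hc)) (R.inv_mem hc')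
    have e2 : z⁻¹ * (q * q' * q⁻¹ * q'⁻¹) = r * (c * c' * c⁻¹ * c'⁻¹)⁻¹ := by
      rw [eq_mul_inv_iff_mul_eq, mul_assoc, hst]; group
    have e3 : z⁻¹ * (q * q' * q⁻¹ * q'⁻¹) = 1 :=
      d.eq_one_of_mem (Q.mul_mem (Q.inv_mem d.zQ) hqq) (by rw [e2]; exact R.mul_mem hr (R.inv_mem hcc))
    have e4 : q * q' * q⁻¹ * q'⁻¹ = z := by
      rw [inv_mul_eq_one] at e3; exact e3.symm
    refine ⟨q', d.QS hq', ?_⟩
    have a1 := d.cQR q' hq' c hc
    calc q * c * q' * (q * c)⁻¹ * q'⁻¹ = q * (c * q') * c⁻¹ * q⁻¹ * q'⁻¹ := by group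
      _ = q * (q' * c) * c⁻¹ * q⁻¹ * q'⁻¹ := by rw [a1]
      _ = q * q' * q⁻¹ * q'⁻¹ := by group
      _ = z := e4
  · intro hsub
    obtain ⟨q₁, hq₁, q₂, hq₂, hz⟩ := d.comm
    have h1 : q₁ ∈ A S z := ⟨d.QS hq₁, q₂, d.QS hq₂, hz⟩
    obtain ⟨-, t, ht, hst⟩ := hsub h1
    obtain ⟨q', hq', c', hc', rfl⟩ := decomp d.prod ht
    have a1 := d.cQR q₁⁻¹ (Q.inv_mem hq₁) c' hc'
    have e1 : q₁ * (q' * c') * q₁⁻¹ * (q' * c')⁻¹ = q₁ * q' * q₁⁻¹ * q'⁻¹ := by
      calc q₁ * (q' * c') * q₁⁻¹ * (q' * c')⁻¹ = q₁ * q' * (c' * q₁⁻¹) * c'⁻¹ * q'⁻¹ := by group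
        _ = q₁ * q' * (q₁⁻¹ * c') * c'⁻¹ * q'⁻¹ := by rw [a1]
        _ = q₁ * q' * q₁⁻¹ * q'⁻¹ := by group
    rw [e1] at hst
    apply hr1
    apply d.eq_one_of_mem _ hr
    have : r = z⁻¹ * (q₁ * q' * q₁⁻¹ * q'⁻¹) := by rw [hst]; group
    rw [this]
    exact Q.mul_mem (Q.inv_mem d.zQ)
      (Q.mul_mem (Q.mul_mem (Q.mul_mem hq₁ hq') (Q.inv_mem hq₁)) (Q.inv_mem hq'))

/-- a conjugate of `z` under the normalizer of `S` is `z` or lies in `R` -/
theorem conj_z [Finite G] (d : Data Q R S z) {n : G} (hn : n ∈ Subgroup.normalizer (S : Set G)) :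
    n * z * n⁻¹ = z ∨ n * z * n⁻¹ ∈ R := by
  have h1 : n * z * n⁻¹ ∈ S := (Subgroup.mem_normalizer_iff.1 hn z).1 (d.QS d.zQ)
  have h2 : (n * z * n⁻¹) * (n * z * n⁻¹) = 1 := by
    calc (n * z * n⁻¹) * (n * z * n⁻¹) = n * (z * z) * n⁻¹ := by group
      _ = 1 := by rw [d.zz]; group
  obtain ⟨r, hr, -, h | h⟩ := d.invol_form h1 h2
  · right; rw [h]; exact hr
  · left
    by_cases hr1 : r = 1
    · rw [h, hr1, mul_one]
    · exfalso
      have h3 := Set.ncard_lt_ncard (d.A_ssubset hr hr1) (Set.toFinite _)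
      have hinj : Function.Injective (fun s : G => n * s * n⁻¹) := (MulAut.conj n).injective
      rw [← h, A_conj hn z, Set.ncard_image_of_injective _ hinj] at h3
      exact lt_irrefl _ h3


/-- There is an involution of `S`, central in `S`, fixed by the normalizer of `S`. -/
theorem exists_fixed_invol [Finite G] (d : Data Q R S z) :
    ∃ w ∈ S, w ≠ 1 ∧ w * w = 1 ∧ ∀ n ∈ Subgroup.normalizer (S : Set G), n * w * n⁻¹ = w := by
  classical
  have := Fintype.ofFinite G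
  obtain ⟨O, hO⟩ : ∃ O : Finset G, ∀ e, e ∈ O ↔ ∃ n ∈ Subgroup.normalizer (S : Set G), e = n * z * n⁻¹ :=
    ⟨Finset.univ.filter (fun e => ∃ n ∈ Subgroup.normalizer (S : Set G), e = n * z * n⁻¹), by simp⟩
  have hzO : z ∈ O := (hO z).2 ⟨1, Subgroup.one_mem _, by simp⟩
  have hOE : ∀ e ∈ O, e ∈ d.E := by
    intro e he
    obtain ⟨n, hn, rfl⟩ := (hO e).1 he
    refine ⟨(Subgroup.mem_normalizer_iff.1 hn z).1 (d.QS d.zQ), ?_⟩
    calc (n * z * n⁻¹) * (n * z * n⁻¹) = n * (z * z) * n⁻¹ := by group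
      _ = 1 := by rw [d.zz]; group
  have hcomm : ∀ a ∈ O, ∀ b ∈ O, Commute a b := by
    intro a ha b hb
    exact d.invol_central (hOE a ha).1 (hOE a ha).2 b (hOE b hb).1
  have hpc : O.toList.Pairwise Commute :=
    List.pairwise_of_forall_mem_list (fun a ha b hb =>
      hcomm a (Finset.mem_toList.1 ha) b (Finset.mem_toList.1 hb))
  have hwE : O.toList.prod ∈ d.E :=
    Subgroup.list_prod_mem _ (fun e he => hOE e (Finset.mem_toList.1 he))
  refine ⟨O.toList.prod, hwE.1, ?_, hwE.2, ?_⟩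
  · -- nontrivial
    have hperm : O.toList.Perm (z :: (O.erase z).toList) := by
      rw [List.perm_ext_iff_of_nodup (Finset.nodup_toList _)
        (List.nodup_cons.2 ⟨by simp, Finset.nodup_toList _⟩)]
      intro a
      simp only [Finset.mem_toList, List.mem_cons, Finset.mem_erase]
      constructor
      · intro ha
        by_cases h : a = z
        · left; exact h
        · right; exact ⟨h, ha⟩
      · rintro (rfl | ⟨-, h⟩)
        · exact hzO
        · exact h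
    have h1 := hperm.prod_eq' hpc
    rw [List.prod_cons] at h1
    have h2 : (O.erase z).toList.prod ∈ R := by
      apply Subgroup.list_prod_mem
      intro e he
      rw [Finset.mem_toList, Finset.mem_erase] at he
      obtain ⟨n, hn, rfl⟩ := (hO e).1 he.2
      exact (d.conj_z hn).resolve_left he.1
    intro h3
    rw [h3] at h1
    apply d.z1
    apply d.eq_one_of_mem d.zQ
    have : z = ((O.erase z).toList.prod)⁻¹ := eq_inv_of_mul_eq_one_left h1.symm
    rw [this]; exact R.inv_mem h2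
  · intro n hn
    have h1 : n * O.toList.prod * n⁻¹ = (O.toList.map (fun e => n * e * n⁻¹)).prod := by
      have h0 := map_list_prod (MulAut.conj n).toMonoidHom O.toList
      have h00 : (O.toList.map (fun e => n * e * n⁻¹)) =
          O.toList.map (⇑(MulAut.conj n).toMonoidHom) := by
        apply List.map_congr_left
        intro a _
        simp
      rw [h00, ← h0]
      simp
    rw [h1]
    have hinj : Function.Injective (fun s : G => n * s * n⁻¹) := (MulAut.conj n).injective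
    have hperm : O.toList.Perm (O.toList.map (fun e => n * e * n⁻¹)) := by
      rw [List.perm_ext_iff_of_nodup (Finset.nodup_toList _)
        ((Finset.nodup_toList _).map hinj)]
      intro a
      simp only [Finset.mem_toList, List.mem_map]
      constructor
      · intro ha
        obtain ⟨m, hm, rfl⟩ := (hO a).1 ha
        refine ⟨(n⁻¹ * m) * z * (n⁻¹ * m)⁻¹,
          (hO _).2 ⟨n⁻¹ * m, Subgroup.mul_mem _ (Subgroup.inv_mem _ hn) hm, rfl⟩, by group⟩
      · rintro ⟨e, he, rfl⟩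
        obtain ⟨m, hm, rfl⟩ := (hO e).1 he
        exact (hO _).2 ⟨n * m, Subgroup.mul_mem _ hn hm, by group⟩
    exact (hperm.prod_eq' hpc).symm

end Data

/-- The involution of the previous lemma is isolated. -/
theorem exists_isolated [Finite G] (P : Sylow 2 G) {Q R : Subgroup G} {z : G}
    (d : Data Q R (P : Subgroup G) z) :
    ∃ w ∈ (P : Subgroup G), orderOf w = 2 ∧
      ∀ g : G, g * w * g⁻¹ ∈ (P : Subgroup G) → g * w * g⁻¹ = w := by
  have : Fact (Nat.Prime 2) := ⟨Nat.prime_two⟩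
  obtain ⟨w, hwP, hw1, hww, hfix⟩ := d.exists_fixed_invol
  refine ⟨w, hwP, orderOf_eq_prime (by rw [pow_two]; exact hww) hw1, ?_⟩
  intro g hg
  have h2 : (g * w * g⁻¹) * (g * w * g⁻¹) = 1 := by
    calc (g * w * g⁻¹) * (g * w * g⁻¹) = g * (w * w) * g⁻¹ := by group
      _ = 1 := by rw [hww]; group
  have c1 : w ∈ Subgroup.centralizer ((P : Subgroup G) : Set G) := by
    rw [Subgroup.mem_centralizer_iff]
    intro t ht
    exact (d.invol_central hwP hww t ht).symm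
  have c2 : g⁻¹⁻¹ * w * g⁻¹ ∈ Subgroup.centralizer ((P : Subgroup G) : Set G) := by
    rw [inv_inv, Subgroup.mem_centralizer_iff]
    intro t ht
    exact (d.invol_central hg h2 t ht).symm
  obtain ⟨n, hn, hn2⟩ := P.conj_eq_normalizer_conj_of_mem_centralizer w g⁻¹ c1 c2
  rw [inv_inv] at hn2
  rw [hn2]
  have := hfix n⁻¹ (Subgroup.inv_mem _ hn)
  rwa [inv_inv] at this

end Cfsg.Agent.Lib.Helper29.QuatFactor
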